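import Groth.Agent.S2436
import Groth.Agent.L17.Duality
import Groth.Agent.L20.ResDescent
import Groth.Agent.L15.Ref.Tensor
import Groth.Agent.L16.NegPow.Gen
import Groth.Agent.L16.Rees.PushExact
import Groth.Agent.L18.LocFreeTilde
import Groth.Agent.L21.RR.Immersion
import Groth.Agent.L22.PDual.TwistExt
import Groth.Agent.L17.Strat.Quot
import Groth.Prelude.Def_ega3
import Mathlib.CategoryTheory.Linear.Yoneda
import Mathlib.CategoryTheory.Preadditive.Yoneda.Basic

/-!
# `M ↦ Hom(E, M~ ⊗ F)` is corepresentable for `E` finite locally free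
-/

set_option autoImplicit false
set_option linter.style.haveILetI false
set_option backward.isDefEq.respectTransparency false
universe u
attribute [local instance] HasDerivedCategory.standard

open CategoryTheory CategoryTheory.Limits AlgebraicGeometry TopologicalSpace Opposite
open scoped TensorProduct

noncomputable section

namespace Groth.L16.HomCorep

open Groth.L00.Tensor (tensorRightF tensorAssoc tensorUnitLeft tensorMap tensorMap_id)

section Flat

variable {A B : CommRingCat.{u}}

/-- Restricting scalars along `φ` of `M ⊗ N`, with `N` free, is flat if that of `M` is. -/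
theorem flat_restrict_tensor (φ : A →+* B) (M N : ModuleCat.{u} B) [Module.Free B N]
    (h : Module.Flat A ((ModuleCat.restrictScalars φ).obj M)) :
    Module.Flat A ((ModuleCat.restrictScalars φ).obj (ModuleCat.of B (M ⊗[B] N))) := by
  classical
  obtain ⟨⟨ι, b⟩⟩ := Module.Free.exists_basis (R := B) (M := N)
  let e : (M ⊗[B] N) ≃ₗ[B] (ι →₀ M) :=
    TensorProduct.congr (LinearEquiv.refl B M) b.repr ≪≫ₗ TensorProduct.finsuppScalarRight B B M ι
  let e' : ((ModuleCat.restrictScalars φ).obj (ModuleCat.of B (M ⊗[B] N))) ≃ₗ[A]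
      (ι →₀ ((ModuleCat.restrictScalars φ).obj M : ModuleCat A)) :=
    { toFun := fun x => e x
      invFun := fun x => e.symm x
      left_inv := fun x => e.symm_apply_apply x
      right_inv := fun x => e.apply_symm_apply x
      map_add' := fun x y => e.map_add x y
      map_smul' := fun a x => by
        refine Finsupp.ext fun i => ?_
        exact congrArg (fun f : ι →₀ M => f i) (e.map_smul (φ a) x) }
  haveI : Module.Flat A ((ModuleCat.restrictScalars φ).obj M : ModuleCat A) := h
  haveI : Module.Flat A (ι →₀ ((ModuleCat.restrictScalars φ).obj M : ModuleCat A)) :=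
    Module.Flat.of_linearEquiv (finsuppLequivDFinsupp A)
  exact Module.Flat.of_linearEquiv e'

theorem isFlatOver_tensor {X S : Scheme.{u}} (f : X ⟶ S) {M E : X.Modules}
    (hM : FlatMod.IsFlatOver f M) (hE : FlatMod.IsFinLocFree E) :
    FlatMod.IsFlatOver f (CohB1.tensorMod M E) := fun x => by
  let R := ModuleCat.restrictScalars.{u} (f.stalkMap x).hom
  haveI : Module.Free (X.presheaf.stalk x) ((Groth.L00.Stk.F X x).obj E) :=
    Groth.L18.LFP.free_stalk E hE x
  have h := flat_restrict_tensor (f.stalkMap x).hom ((Groth.L00.Stk.F X x).obj M) ((Groth.L00.Stk.F X x).obj E) (hM x)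
  exact (Module.Flat.equiv_iff (R.mapIso (Groth.L00.Stk.τ x M E)).toLinearEquiv).1 h

end Flat

variable {X : Scheme.{u}}

/-- Two successive tensor products. -/
def twiceIso (F D : X.Modules) :
    tensorRightF F ⋙ tensorRightF D ≅ tensorRightF (CohB1.tensorMod F D) :=
  NatIso.ofComponents (fun M => tensorAssoc M F D) fun {M N} f => by
    show tensorMap (tensorMap f (𝟙 F)) (𝟙 D) ≫ (tensorAssoc N F D).hom =
      (tensorAssoc M F D).hom ≫ tensorMap f (𝟙 (CohB1.tensorMod F D))
    rw [Groth.L29.DC.Assoc.assoc_natural f (𝟙 F) (𝟙 D), tensorMap_id]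

variable (E : X.Modules) [ModSite.HasSheafHom (O := X.sheaf) E]

/-- `- ⊗ E ⊣ - ⊗ E^∨`. -/
def adjE (hE : FlatMod.IsFinLocFree E) : tensorRightF E ⊣ tensorRightF (Groth.L17.Duality.dual E) :=
  ((ModSite.sheafHomAdj (O := X.sheaf) E).ofNatIsoLeft
    (Groth.L17.ChangeRings.tensorRightBiIso E).symm).ofNatIsoRight (Groth.L17.Duality.tensorDualIso E hE).symm

section Gamma

variable (A : Type u) [CommRing A] [X.Over (Spec (CommRingCat.of A))] (hE : FlatMod.IsFinLocFree E)

open Groth.L21.RR (oneSec hom_ext_one)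

/-- The canonical section of `E ⊗ E^∨`, as a map. -/
def coev : Coh.structureModule X ⟶ (tensorRightF (Groth.L17.Duality.dual E)).obj E :=
  (adjE E hE).homEquiv (Coh.structureModule X) E (tensorUnitLeft E).hom

/-- `Hom(E, N) → Γ(N ⊗ E^∨)`. -/
def secHom (N : X.Modules) :
    (E ⟶ N) →+ ((tensorRightF (Groth.L17.Duality.dual E) ⋙ CohIII.globalSectionsA A).obj N : ModuleCat A) :=
  AddMonoidHom.mk'
    (fun φ => ((coev E hE ≫ (tensorRightF (Groth.L17.Duality.dual E)).map φ).app ⊤ (oneSec X) :
      Γ((tensorRightF (Groth.L17.Duality.dual E)).obj N, ⊤))) fun φ ψ => by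
    rw [Functor.map_add, Preadditive.comp_add]
    rfl

theorem secHom_apply (N : X.Modules) (φ : E ⟶ N) : secHom E A hE N φ =
    ((coev E hE ≫ (tensorRightF (Groth.L17.Duality.dual E)).map φ).app ⊤ (oneSec X) :
      Γ((tensorRightF (Groth.L17.Duality.dual E)).obj N, ⊤)) := rfl

theorem bijective_secHom (N : X.Modules) : Function.Bijective (secHom E A hE N) := by
  have key : ∀ φ : E ⟶ N, coev E hE ≫ (tensorRightF (Groth.L17.Duality.dual E)).map φ =
      (adjE E hE).homEquiv _ _ ((tensorUnitLeft E).hom ≫ φ) := fun φ =>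
    ((adjE E hE).homEquiv_naturality_right _ _).symm
  refine ⟨fun φ ψ h => ?_, fun z => ?_⟩
  · rw [secHom_apply, secHom_apply] at h
    have h1 : coev E hE ≫ (tensorRightF (Groth.L17.Duality.dual E)).map φ =
        coev E hE ≫ (tensorRightF (Groth.L17.Duality.dual E)).map ψ := hom_ext_one h
    rw [key, key] at h1
    exact (cancel_epi (tensorUnitLeft E).hom).1 (((adjE E hE).homEquiv _ _).injective h1)
  · obtain ⟨θ, hθ⟩ := Groth.L21.RR.exists_hom_secOf (L := (tensorRightF (Groth.L17.Duality.dual E)).obj N) z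
    refine ⟨(tensorUnitLeft E).inv ≫ ((adjE E hE).homEquiv (Coh.structureModule X) N).symm θ, ?_⟩
    rw [secHom_apply, key, Iso.hom_inv_id_assoc, Equiv.apply_symm_apply]
    exact hθ

/-- `Γ(- ⊗ E^∨) ≅ Hom(E, -)`. -/
def gammaIso :
    preadditiveCoyoneda.obj (op E) ≅ tensorRightF (Groth.L17.Duality.dual E) ⋙ CohIII.globalSectionsA A ⋙
      forget₂ (ModuleCat.{u} A) AddCommGrpCat.{u} :=
  NatIso.ofComponents
    (fun N => AddEquiv.toAddCommGrpIso (AddEquiv.ofBijective (secHom E A hE N) (bijective_secHom E A hE N)))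
    fun {N N'} g => by
      refine AddCommGrpCat.ext fun φ => ?_
      show (coev E hE ≫ (tensorRightF (Groth.L17.Duality.dual E)).map (φ ≫ g)).app ⊤ (oneSec X) = _
      rw [Functor.map_comp]
      rfl

end Gamma

/-- `(M~ ⊗ F) ⊗ D ≅ M~ ⊗ (F ⊗ D)`. -/
def tensorAIso (A : Type u) [CommRing A] [X.Over (Spec (CommRingCat.of A))] (F D : X.Modules) :
    CohIII.tensorAFunctor A F ⋙ tensorRightF D ≅ CohIII.tensorAFunctor A (CohB1.tensorMod F D) :=
  Functor.associator _ _ _ ≪≫ Functor.isoWhiskerLeft (tilde.functor (CommRingCat.of A))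
    (Functor.associator _ _ _ ≪≫ Functor.isoWhiskerLeft (Scheme.Modules.pullback (X ↘ Spec (CommRingCat.of A)))
      (Functor.isoWhiskerRight (Groth.L16.Rees.PushExact.rightModIso F) (tensorRightF D) ≪≫
        twiceIso F D ≪≫ (Groth.L16.Rees.PushExact.rightModIso (CohB1.tensorMod F D)).symm))

theorem exists_corep (A : Type u) [CommRing A] [IsNoetherianRing A]
    (X : Scheme.{u}) [X.Over (Spec (CommRingCat.of A))] [IsProper (X ↘ Spec (CommRingCat.of A))]
    (F : X.Modules) (hF : Coh.IsCoh F) (hfl : FlatMod.IsFlatOver (X ↘ Spec (CommRingCat.of A)) F)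
    (E : X.Modules) (hE : FlatMod.IsFinLocFree E) :
    ∃ Q : ModuleCat.{u} A, Module.Finite A Q ∧
      Nonempty (CohIII.tensorAFunctor A F ⋙ preadditiveCoyoneda.obj (op E) ≅
        (linearCoyoneda A (ModuleCat.{u} A)).obj (op Q) ⋙ forget₂ (ModuleCat.{u} A) AddCommGrpCat.{u}) := by
  haveI := Groth.L17.Duality.hasSheafHom E
  haveI : IsLocallyNoetherian X := LocallyOfFiniteType.isLocallyNoetherian (X ↘ Spec (CommRingCat.of A))
  let D := Groth.L17.Duality.dual E
  have hD : FlatMod.IsFinLocFree D := Groth.L20.ResDescent.isFinLocFree_dual E hE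
  have hF' : Coh.IsCoh (CohB1.tensorMod F D) :=
    Groth.L15.Ref.isCoh_tensorMod hF (Groth.L16.NegPow.isCoh_of_isFinLocFree hD)
  obtain ⟨Q, hQ, ⟨e⟩⟩ := Groth.Agent.S2436.result A X (CohB1.tensorMod F D) hF'
    (isFlatOver_tensor _ hfl hD)
  let t := tensorAIso A F D
  exact ⟨Q, hQ, ⟨Functor.isoWhiskerLeft (CohIII.tensorAFunctor A F) (gammaIso E A hE) ≪≫
    Functor.isoWhiskerRight t (CohIII.globalSectionsA A ⋙ forget₂ _ _) ≪≫
    Functor.isoWhiskerRight e (forget₂ _ _)⟩⟩

end Groth.L16.HomCorep
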